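import Groth.Prelude.Def_W4c2conddiscmodels
import Mathlib

/-!
# Continuants of Hirzebruch–Jung continued fractions
-/

namespace Groth.Agent.HJLib

open AlgebraicGeometry

/-- Numerator and denominator of `[b 1, …, b l]`. -/
def pq : ℕ → (ℕ → ℤ) → ℤ × ℤ
  | 0, _ => (1, 0)
  | l + 1, b =>
    (b 1 * (pq l fun i => b (i + 1)).1 - (pq l fun i => b (i + 1)).2,
      (pq l fun i => b (i + 1)).1)

lemma pq_bounds : ∀ (l : ℕ) (b : ℕ → ℤ), (∀ i, 1 ≤ i → i ≤ l → 2 ≤ b i) →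
    0 ≤ (pq l b).2 ∧ (pq l b).2 < (pq l b).1 ∧ IsCoprime (pq l b).1 (pq l b).2 ∧
      (1 ≤ l → 0 < (pq l b).2)
  | 0, b, _ => by simp [pq, isCoprime_one_left]
  | l + 1, b, hb => by
    obtain ⟨h1, h2, h3, -⟩ := pq_bounds l (fun i => b (i + 1))
      fun i hi hil => hb (i + 1) (by omega) (by omega)
    have hb1 := hb 1 le_rfl (by omega)
    refine ⟨?_, ?_, ?_, fun _ => ?_⟩ <;> simp only [pq]
    · omega
    · nlinarith
    · generalize (pq l fun i => b (i + 1)).1 = p, (pq l fun i => b (i + 1)).2 = q at h3 ⊢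
      have := (h3.symm.neg_left).add_mul_right_left (b 1)
      rwa [show b 1 * p - q = -q + b 1 * p by ring]
    · omega

lemma mu_last : ∀ (l : ℕ) (b μ : ℕ → ℤ),
    (∀ i, 1 ≤ i → i ≤ l → b i * μ i = μ (i - 1) + μ (i + 1)) →
    μ (l + 1) = (pq l b).1 * μ 1 - (pq l b).2 * μ 0
  | 0, b, μ, _ => by simp [pq]
  | l + 1, b, μ, h => by
    have := mu_last l (fun i => b (i + 1)) (fun i => μ (i + 1)) fun i hi hil => by
      have h' := h (i + 1) (by omega) (by omega)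
      simpa [Nat.sub_add_cancel hi] using h'
    have h1 := h 1 le_rfl (by omega)
    simp only [pq] at *
    rw [this]
    have : μ (1 + 1) = b 1 * μ 1 - μ 0 := by simp at h1; linarith
    simp only [zero_add, this]
    ring

lemma mu_dvd (l : ℕ) (b μ : ℕ → ℤ) (g : ℤ)
    (h : ∀ i, 1 ≤ i → i ≤ l → b i * μ i = μ (i - 1) + μ (i + 1))
    (h0 : g ∣ μ 0) (h1 : g ∣ μ 1) : ∀ i, i ≤ l + 1 → g ∣ μ i := by
  intro i
  induction i using Nat.strong_induction_on with
  | _ i ih =>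
    intro hi
    match i, ih, hi with
    | 0, _, _ => exact h0
    | 1, _, _ => exact h1
    | j + 2, ih, hi =>
      have := h (j + 1) (by omega) (by omega)
      simp only [add_tsub_cancel_right] at this
      rw [show μ (j + 2) = b (j + 1) * μ (j + 1) - μ j by linarith]
      exact dvd_sub (dvd_mul_of_dvd_right (ih (j + 1) (by omega) (by omega)) _)
        (ih j (by omega) (by omega))

lemma mu_sum : ∀ (l : ℕ) (b μ : ℕ → ℤ),
    (∀ i, 1 ≤ i → i ≤ l → b i * μ i = μ (i - 1) + μ (i + 1)) →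
    (∀ i, i ≤ l + 1 → μ i ≠ 0) →
    (μ 0 : ℚ) * ∑ i ∈ Finset.range (l + 1), 1 / ((μ i : ℚ) * (μ (i + 1) : ℚ)) =
      ((pq l b).1 : ℚ) / (μ (l + 1) : ℚ)
  | 0, b, μ, _, hne => by
    have h0 : (μ 0 : ℚ) ≠ 0 := by exact_mod_cast hne 0 (by omega)
    simp [pq]
    field_simp
  | l + 1, b, μ, h, hne => by
    have hs := mu_sum l (fun i => b (i + 1)) (fun i => μ (i + 1))
      (fun i hi hil => by
        have h' := h (i + 1) (by omega) (by omega)
        simpa [Nat.sub_add_cancel hi] using h')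
      (fun i hi => hne (i + 1) (by omega))
    have hl := mu_last (l + 1) b μ h
    have h0 : (μ 0 : ℚ) ≠ 0 := by exact_mod_cast hne 0 (by omega)
    have h1 : (μ 1 : ℚ) ≠ 0 := by exact_mod_cast hne 1 (by omega)
    have he : (μ (l + 1 + 1) : ℚ) ≠ 0 := by exact_mod_cast hne (l + 1 + 1) le_rfl
    rw [Finset.sum_range_succ']
    simp only [zero_add] at hs ⊢
    have hsum : ∑ i ∈ Finset.range (l + 1),
        1 / ((μ (i + 1) : ℚ) * (μ (i + 1 + 1) : ℚ)) =
        ((pq l fun i => b (i + 1)).1 : ℚ) / (μ (l + 1 + 1) : ℚ) / (μ 1 : ℚ) := by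
      rw [eq_div_iff h1, mul_comm]
      exact hs
    rw [hsum]
    have hl' : (μ (l + 1 + 1) : ℚ) =
        ((pq (l + 1) b).1 : ℚ) * μ 1 - ((pq (l + 1) b).2 : ℚ) * μ 0 := by exact_mod_cast hl
    simp only [pq] at hl' ⊢
    field_simp
    linarith

lemma hjVal_eq : ∀ (l : ℕ) (b : ℕ → ℤ), (∀ i, 1 ≤ i → i ≤ l → 2 ≤ b i) →
    HJFrac.hjVal ((List.range l).map fun i => b (i + 1)) =
      ((pq l b).1 : ℚ) / ((pq l b).2 : ℚ)
  | 0, b, _ => by simp [pq, HJFrac.hjVal]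
  | l + 1, b, hb => by
    have hb' : ∀ i, 1 ≤ i → i ≤ l → 2 ≤ b (i + 1) := fun i hi hil =>
      hb (i + 1) (by omega) (by omega)
    have ih := hjVal_eq l (fun i => b (i + 1)) hb'
    obtain ⟨h1, h2, -, -⟩ := pq_bounds l (fun i => b (i + 1)) hb'
    rw [List.range_succ_eq_map, List.map_cons, List.map_map]
    simp only [pq]
    rw [HJFrac.hjVal]
    rw [show ((fun i => b (i + 1)) ∘ Nat.succ) = fun i => b (i + 1 + 1) from rfl, ih, inv_div]
    have : ((pq l fun i => b (i + 1)).1 : ℚ) ≠ 0 := by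
      exact_mod_cast (show (pq l fun i => b (i + 1)).1 ≠ 0 by omega)
    push_cast
    field_simp

lemma pq_fst_eq (l : ℕ) (hl : 1 ≤ l) (b : ℕ → ℤ) (hb : ∀ i, 1 ≤ i → i ≤ l → 2 ≤ b i)
    (n r : ℕ) (hr : 0 < r) (hcop : Nat.Coprime n r)
    (hhj : (n : ℚ) / r = HJFrac.hjVal ((List.range l).map fun i => b (i + 1))) :
    (pq l b).1 = n ∧ (pq l b).2 = r := by
  obtain ⟨-, -, h3, h4⟩ := pq_bounds l b hb
  have hq := h4 hl
  rw [hjVal_eq l b hb] at hhj
  have e1 := Rat.num_div_eq_of_coprime hq (Int.isCoprime_iff_nat_coprime.mp h3)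
  have e2 := Rat.den_div_eq_of_coprime hq (Int.isCoprime_iff_nat_coprime.mp h3)
  have e3 := Rat.num_div_eq_of_coprime (a := (n : ℤ)) (b := (r : ℤ)) (by exact_mod_cast hr)
    (by simpa using hcop)
  have e4 := Rat.den_div_eq_of_coprime (a := (n : ℤ)) (b := (r : ℤ)) (by exact_mod_cast hr)
    (by simpa using hcop)
  have hh : (((n : ℤ) : ℚ) / ((r : ℤ) : ℚ)) = ((pq l b).1 : ℚ) / ((pq l b).2 : ℚ) := by
    rw [Int.cast_natCast, Int.cast_natCast]
    exact hhj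
  rw [hh] at e3 e4
  exact ⟨e1.symm.trans e3, e2.symm.trans e4⟩

end Groth.Agent.HJLib
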